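import Cfsg.Agent.H539.Lim.DefsC
import Cfsg.Agent.H481.Lim.Norm

/-!
# Vertex functions (helper815, for S5242, piece C4a)

* `c_eq_Vv`, `Vv_pair`, `Vv_eq_zero`
-/

set_option autoImplicit false

namespace Cfsg.Agent.H815.Lim

open MulAction Cfsg.Agent.H539.Lim

universe u v w

/-- a sum over a finite set with a fixed point free involution whose pair sums are in a subgroup -/
theorem sum_mem_of_invol {Ω D : Type*} [AddCommGroup D] (H : AddSubgroup D) (Z : Finset Ω) (F : Ω → D) (σ : Ω → Ω)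
    (h1 : ∀ y ∈ Z, σ y ∈ Z) (h2 : ∀ y ∈ Z, σ (σ y) = y) (h3 : ∀ y ∈ Z, σ y ≠ y)
    (h4 : ∀ y ∈ Z, F y + F (σ y) ∈ H) : ∑ y ∈ Z, F y ∈ H := by
  rw [← QuotientAddGroup.eq_zero_iff]
  have e : ((∑ y ∈ Z, F y : D) : D ⧸ H) = ∑ y ∈ Z, ((F y : D) : D ⧸ H) :=
    map_sum (QuotientAddGroup.mk' H) F Z
  rw [e]
  refine Finset.sum_involution (fun y _ => σ y) ?_ ?_ ?_ ?_
  · intro y hy
    have := (QuotientAddGroup.eq_zero_iff (N := H) (F y + F (σ y))).2 (h4 y hy)
    exact this
  · intro y hy _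
    exact h3 y hy
  · exact h1
  · exact h2

variable {G : Type u} [Group G] {Ω : Type v} [MulAction G Ω] {D : Type w} [AddCommGroup D] [DistribMulAction G D]

open Classical in
/-- an involution has an odd number of fixed points on a set of odd size -/
theorem odd_card_fix {Ω₀ : Finset Ω} (h0 : Orb2 G Ω₀) {a : G} (ha : a * a = 1) :
    Odd (Ω₀.filter (fun y => a • y = y)).card := by
  have h1 : Even (Ω₀.filter (fun y => ¬ a • y = y)).card := by
    rw [← ZMod.natCast_eq_zero_iff_even]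
    rw [Finset.cast_card]
    refine Finset.sum_involution (fun y _ => a • y) ?_ ?_ ?_ ?_
    · intro y hy
      decide
    · intro y hy _
      exact (Finset.mem_filter.1 hy).2
    · intro y hy
      rw [Finset.mem_filter] at hy ⊢
      refine ⟨h0.smul_mem a y hy.1, fun h => hy.2 ?_⟩
      have := congrArg (fun t => a⁻¹ • t) h
      simpa using this
    · intro y hy
      rw [smul_smul, ha, one_smul]
  have h2 := Finset.card_filter_add_card_filter_not (s := Ω₀) (fun y => a • y = y)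
  have h3 := h0.odd
  rw [← h2] at h3
  exact (Nat.odd_add.1 h3).2 h1

/-- `⟨a⟩` is a best offender for a transvection `a` -/
theorem tv_bo [Finite D] {a : G} {f : D →+ ZMod 2} {z : D} (ha : Tv a f z) : BO D (Subgroup.zpowers a) := by
  have h2 : a ^ 2 = 1 := by rw [pow_two, ha.sq]
  have hcard : Nat.card (Subgroup.zpowers a) = 2 := by
    rw [Nat.card_zpowers]
    exact orderOf_eq_prime h2 ha.ne_one
  have hfin : Finite (Subgroup.zpowers a) := Nat.finite_of_card_ne_zero (by rw [hcard]; norm_num)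
  refine ⟨?_, ?_⟩
  · intro x hx y hy
    obtain ⟨i, rfl⟩ := Subgroup.mem_zpowers_iff.1 hx
    obtain ⟨j, rfl⟩ := Subgroup.mem_zpowers_iff.1 hy
    exact zpow_mul_comm a i j
  · intro B hB
    have hd : Nat.card B ∣ 2 := by
      rw [← hcard]
      exact Subgroup.card_dvd_of_le hB
    rcases (Nat.dvd_prime Nat.prime_two).1 hd with h | h
    · -- `B = ⊥`
      have hB : B = ⊥ := Subgroup.card_eq_one.1 h
      subst hB
      rw [h, one_mul, hcard]
      have e1 : Nat.card (DFix (⊥ : Subgroup G) D) ≤ Nat.card D := Nat.card_le_card_of_injective _ Subtype.val_injective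
      have e2 : Nat.card (DFix (Subgroup.zpowers a) D) = Nat.card f.ker := by
        have : DFix (Subgroup.zpowers a) D = f.ker := by
          ext d
          constructor
          · intro hd
            have h1 : a • d = d := hd a (Subgroup.mem_zpowers a)
            rw [ha.act] at h1
            have h2 : (f d).val • z = 0 := by simpa using h1
            rw [AddMonoidHom.mem_ker]
            have h3 : (f d).val < 2 := ZMod.val_lt _
            have h4 : (f d).val = 0 ∨ (f d).val = 1 := by omega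
            rcases h4 with h4 | h4
            · exact (ZMod.val_eq_zero _).1 h4
            · rw [h4, one_smul] at h2
              exact absurd h2 ha.z_ne
          · intro hd
            rw [AddMonoidHom.mem_ker] at hd
            have h1 : a • d = d := by rw [ha.act, hd]; simp
            intro u hu
            obtain ⟨i, rfl⟩ := Subgroup.mem_zpowers_iff.1 hu
            have : a ∈ stabilizer G d := h1
            exact Subgroup.zpow_mem _ this i
        rw [this]
      have e3 : Nat.card D = 2 * Nat.card f.ker := by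
        have h1 := AddSubgroup.card_mul_index f.ker
        rw [← h1, AddSubgroup.index_ker, mul_comm]
        congr 1
        have : f.range = ⊤ := by
          obtain ⟨d, hd⟩ : ∃ d, f d ≠ 0 := by
            by_contra h
            push Not at h
            exact ha.f_ne (AddMonoidHom.ext h)
          rw [AddMonoidHom.range_eq_top]
          intro x
          have h2 : ∀ s t : ZMod 2, s ≠ 0 → t = 0 ∨ t = s := by decide
          rcases h2 (f d) x hd with rfl | rfl
          · exact ⟨0, map_zero f⟩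
          · exact ⟨d, rfl⟩
        rw [this]
        simp
      rw [e2, ← e3]
      exact e1
    · have hB' : B = Subgroup.zpowers a := by
        have := Subgroup.eq_of_le_of_card_ge hB (by rw [hcard, h])
        exact this
      rw [hB']

/-- a subgroup containing a transvection is in `Q0` -/
theorem tv_mem_Q0 [Finite D] {a : G} {f : D →+ ZMod 2} {z : D} (ha : Tv a f z) {P : Subgroup G} (h : a ∈ P) :
    P ∈ Q0 G D :=
  ⟨Subgroup.zpowers a, Subgroup.zpowers_le.2 h, fun h1 => ha.ne_one (Subgroup.zpowers_eq_bot.1 h1), tv_bo ha⟩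

variable {Ω₀ : Finset Ω} {c : Ω → Ω → D}

theorem coc2_self [Finite D] (hc : Coc2 G Ω₀ c) {x : Ω} (hx : x ∈ Ω₀) (h : stabilizer G x ∈ Q0 G D) : c x x = 0 := by
  have h1 := hc.coc x hx x hx x hx (by rw [inf_idem, inf_idem]; exact h)
  simpa using h1

/-- symmetry -/
theorem coc2_symm [Finite D] (hc : Coc2 G Ω₀ c) {x y : Ω} (hx : x ∈ Ω₀) (hy : y ∈ Ω₀)
    (h : stabilizer G x ⊓ stabilizer G y ∈ Q0 G D) : c x y = - c y x := by
  have h0 : stabilizer G x ∈ Q0 G D := by
    obtain ⟨A, hA, h1⟩ := h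
    exact ⟨A, hA.trans inf_le_left, h1⟩
  have h1 := hc.coc x hx y hy x hx (by rw [inf_right_comm, inf_idem]; exact h)
  rw [coc2_self hc hx h0] at h1
  exact eq_neg_of_add_eq_zero_left h1.symm

theorem c_eq_Vv [Finite D] {Ω₀ : Finset Ω} (h0 : Orb2 G Ω₀) {c : Ω → Ω → D} (hc : Coc2 G Ω₀ c)
    (h2 : ∀ x ∈ Ω₀, ∀ y ∈ Ω₀, 2 • c x y = 0) {a : G} {f : D →+ ZMod 2} {z : D} (ha : Tv a f z) {x y : Ω}
    (hx : x ∈ Ω₀) (hy : y ∈ Ω₀) (hax : a • x = x) (hay : a • y = y) :
    c x y = Vv Ω₀ c a x + Vv Ω₀ c a y := by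
  classical
  have key : ∀ t ∈ Ω₀.filter (fun t => a • t = t), c x t + c y t = c x y := by
    intro t ht
    rw [Finset.mem_filter] at ht
    have h1 := hc.coc x hx t ht.1 y hy (tv_mem_Q0 ha ⟨⟨hax, ht.2⟩, hay⟩)
    have h3 := coc2_symm hc ht.1 hy (tv_mem_Q0 ha ⟨ht.2, hay⟩)
    have h4 : - c y t = c y t := by
      rw [neg_eq_iff_add_eq_zero, ← two_nsmul]
      exact h2 y hy t ht.1
    rw [h1, h3, h4]
  unfold Vv
  rw [← Finset.sum_add_distrib, Finset.sum_congr rfl (by convert key), Finset.sum_const]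
  obtain ⟨k, hk⟩ := odd_card_fix h0 ha.sq
  have e : (Ω₀.filter (fun y => a • y = y)).card = 2 * k + 1 := hk
  have e2 : (Ω₀.filter (fun y => a • y = y)).card • c x y = c x y := by
    rw [e, add_smul, one_smul, mul_comm, mul_smul, h2 x hx y hy, smul_zero, zero_add]
  convert e2.symm

/-- multiples -/
theorem exists_nat_of_mem {t x : D} (ht : t + t = 0) (h : x ∈ AddSubgroup.zmultiples t) : ∃ j : ℕ, x = j • t := by
  obtain ⟨n, hn⟩ := AddSubgroup.mem_zmultiples_iff.1 h
  rcases Int.eq_nat_or_neg n with ⟨j, rfl | rfl⟩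
  · exact ⟨j, by rw [← hn, natCast_zsmul]⟩
  · refine ⟨j, ?_⟩
    rw [← hn, neg_smul, natCast_zsmul, ← smul_neg, neg_eq_iff_add_eq_zero.2 ht]

open Classical in
omit [DistribMulAction G D] in
theorem Vv_split {a b : G} (x : Ω) : Vv Ω₀ c a x = ∑ y ∈ Ω₀.filter (fun y => a • y = y ∧ b • y = y), c x y +
    ∑ y ∈ Ω₀.filter (fun y => a • y = y ∧ ¬ b • y = y), c x y := by
  unfold Vv
  rw [← Finset.filter_filter, ← Finset.filter_filter]
  rw [Finset.sum_filter_add_sum_filter_not]

open Classical in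
theorem sum_not_fix {Ω₀ : Finset Ω} (h0 : Orb2 G Ω₀) {c : Ω → Ω → D} (hc : Coc2 G Ω₀ c)
    (h2 : ∀ x ∈ Ω₀, ∀ y ∈ Ω₀, 2 • c x y = 0) {a b : G} {g : D →+ ZMod 2} {t : D}
    (hb : Tv b g t) (hab : a * b = b * a) {x : Ω} (hx : x ∈ Ω₀) (hbx : b • x = x) :
    ∑ y ∈ Ω₀.filter (fun y => a • y = y ∧ ¬ b • y = y), c x y ∈ AddSubgroup.zmultiples t := by
  refine sum_mem_of_invol _ _ _ (fun y => b • y) ?_ ?_ ?_ ?_
  · intro y hy
    rw [Finset.mem_filter] at hy ⊢
    refine ⟨h0.smul_mem b y hy.1, ?_, fun h => hy.2.2 ?_⟩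
    · rw [smul_smul, hab, mul_smul, hy.2.1]
    · have := congrArg (fun t => b⁻¹ • t) h
      simpa using this
  · intro y hy
    rw [smul_smul, hb.sq, one_smul]
  · intro y hy
    exact (Finset.mem_filter.1 hy).2.2
  · intro y hy
    have h1 : c x (b • y) = b • c x y := by
      have := hc.equiv b x y
      rwa [hbx] at this
    change c x y + c x (b • y) ∈ _
    rw [h1, hb.act, ← add_assoc, ← two_nsmul, h2 x hx y (Finset.mem_filter.1 hy).1, zero_add]
    exact AddSubgroup.nsmul_mem _ (AddSubgroup.mem_zmultiples t) _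

theorem Vv_pair {Ω₀ : Finset Ω} (h0 : Orb2 G Ω₀) {c : Ω → Ω → D} (hc : Coc2 G Ω₀ c)
    (h2 : ∀ x ∈ Ω₀, ∀ y ∈ Ω₀, 2 • c x y = 0) {a b : G} {f g : D →+ ZMod 2} {z t : D} (ha : Tv a f z)
    (hb : Tv b g t) (hab : a * b = b * a) {x : Ω} (hx : x ∈ Ω₀) (hax : a • x = x) (hbx : b • x = x) :
    ∃ i j : ℕ, Vv Ω₀ c a x + Vv Ω₀ c b x = i • z + j • t := by
  classical
  obtain ⟨j, hj⟩ := exists_nat_of_mem hb.two_z (sum_not_fix h0 hc h2 (a := a) hb hab hx hbx)
  obtain ⟨i, hi⟩ := exists_nat_of_mem ha.two_z (sum_not_fix h0 hc h2 (a := b) ha hab.symm hx hax)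
  refine ⟨i, j, ?_⟩
  rw [Vv_split (b := b), Vv_split (a := b) (b := a), hi, hj]
  have e : Ω₀.filter (fun y => b • y = y ∧ a • y = y) = Ω₀.filter (fun y => a • y = y ∧ b • y = y) :=
    Finset.filter_congr fun y _ => and_comm
  rw [e]
  have h3 : ∑ y ∈ Ω₀.filter (fun y => a • y = y ∧ b • y = y), c x y +
      ∑ y ∈ Ω₀.filter (fun y => a • y = y ∧ b • y = y), c x y = 0 := by
    rw [← two_nsmul, Finset.smul_sum]
    exact Finset.sum_eq_zero fun y hy => h2 x hx y (Finset.mem_filter.1 hy).1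
  calc _ = (∑ y ∈ Ω₀.filter (fun y => a • y = y ∧ b • y = y), c x y +
      ∑ y ∈ Ω₀.filter (fun y => a • y = y ∧ b • y = y), c x y) + (i • z + j • t) := by abel
    _ = _ := by rw [h3, zero_add]

/-- (α) -/
theorem Vv_eq_zero [Finite G]
    {Ω₀ : Finset Ω} (h0 : Orb2 G Ω₀) {c : Ω → Ω → D} (hc : Coc2 G Ω₀ c)
    (h2 : ∀ x ∈ Ω₀, ∀ y ∈ Ω₀, 2 • c x y = 0)
    (hs : ∀ x ∈ Ω₀, ∀ y ∈ Ω₀, stabilizer G x ⊓ stabilizer G y ∈ Qs G D → c x y = 0)
    {a : G} {x : Ω} (hx : x ∈ Ω₀) (_hax : a • x = x) {A : Subgroup G} (hA : A ≤ stabilizer G x) (hA1 : A ≠ ⊥)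
    (hAB : BO D A) (hAg : NGood 2 D A) (hcomm : ∀ b ∈ A, a * b = b * a) : Vv Ω₀ c a x = 0 := by
  classical
  have hP : IsPGroup 2 A := by
    obtain ⟨S, hS⟩ := h0.sylow x hx
    exact (S.isPGroup'.to_le (hA.trans hS.ge))
  have e1 : Vv Ω₀ c a x = ∑ y ∈ (Ω₀.filter (fun y => a • y = y)).filter (fun y => A ≤ stabilizer G y), c x y +
      ∑ y ∈ (Ω₀.filter (fun y => a • y = y)).filter (fun y => ¬ A ≤ stabilizer G y), c x y := by
    rw [Finset.sum_filter_add_sum_filter_not]
    unfold Vv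
    congr
  have e2 : ∑ y ∈ (Ω₀.filter (fun y => a • y = y)).filter (fun y => A ≤ stabilizer G y), c x y = 0 := by
    refine Finset.sum_eq_zero fun y hy => ?_
    rw [Finset.mem_filter, Finset.mem_filter] at hy
    exact hs x hx y hy.1.1 ⟨A, le_inf hA hy.2, hA1, hAB, hAg⟩
  obtain ⟨m, -, hm⟩ := H481.Lim.NGood.sum_eq hP hAg ((Ω₀.filter (fun y => a • y = y)).filter (fun y => ¬ A ≤ stabilizer G y))
    (by
      intro b hb y hy
      rw [Finset.mem_filter, Finset.mem_filter] at hy ⊢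
      refine ⟨⟨h0.smul_mem b y hy.1.1, ?_⟩, fun h => hy.2 ?_⟩
      · rw [smul_smul, hcomm b hb, mul_smul, hy.1.2]
      · intro u hu
        have h3 : b * u * b⁻¹ ∈ A := A.mul_mem (A.mul_mem hb hu) (A.inv_mem hb)
        have h4 : (b * u * b⁻¹) • b • y = b • y := h h3
        have h5 := congrArg (fun t => b⁻¹ • t) h4
        simpa [smul_smul, mul_assoc] using h5)
    (fun y hy => (Finset.mem_filter.1 hy).2) (fun y => c x y)
    (by
      intro b hb y _
      have := hc.equiv b x y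
      have hbx : b • x = x := hA hb
      rwa [hbx] at this)
    0 (by
      intro y hy
      rw [Finset.mem_filter, Finset.mem_filter] at hy
      exact h2 x hx y hy.1.1)
    (fun b _ => smul_zero b)
  rw [e1, e2, hm, smul_zero, add_zero]

end Cfsg.Agent.H815.Lim
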